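import Cfsg.Agent.LV.E7.Fr
import Cfsg.Agent.LV.W.C7

/-!
# LV, `E₇`, `p = 5`: the box `BoxA` and the row (helper14)
-/

set_option autoImplicit false
set_option maxRecDepth 100000

namespace Cfsg.Agent.LV.E7

open CoxeterSystem Cfsg Cfsg.Lie Cfsg.Agent.Nodes.RGDChev Cfsg.Agent.KZ.DatX Cfsg.Agent.KZ.Exc Cfsg.Agent.KZ.Exc.Gr
  Cfsg.Agent.LV.T Cfsg.Agent.Tits.Exchange Cfsg.Agent.Tits.Core

/-- the nodes -/
def em (a : ℕ) : Fin 7 := ⟨a % 7, Nat.mod_lt _ (by decide)⟩

/-- the letters of a code -/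
noncomputable def dN (f : ℕ) : ℕ → List ℕ :=
  Nat.rec (fun _ => []) (fun _ ih n => Bool.rec (ih (Nat.div n 8) ++ [Nat.mod (Nat.mod n 8) 7]) [] (Nat.beq n 0)) f

theorem eN_eq (f n : ℕ) : eN f n = CoxeterMatrix.E₇.toCoxeterSystem.wordProd ((dN f n).map em) := by
  induction f generalizing n with
  | zero => exact (wordProd_nil _).symm
  | succ f ih =>
    show (Bool.rec (eN f _ * _) 1 (Nat.beq n 0) : W7) = wordProd _ (List.map em (Bool.rec (dN f _ ++ _) [] (Nat.beq n 0)))
    cases Nat.beq n 0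
    · rw [List.map_append, wordProd_append, ih, List.map_singleton, wordProd_singleton]
      exact congrArg (fun i => _ * sp i) (Fin.ext (Nat.mod_mod _ 7).symm)
    · exact (wordProd_nil _).symm

theorem fit : W.Fit CoxeterMatrix.E₇.toCoxeterSystem hpE7.isCartan 1 W.E7.toTy em Set.univ 1 :=
  haveI := finite_W hpE7 CoxeterMatrix.E₇.toCoxeterSystem
  letI := Fintype.ofFinite W7
  W.Fit.top (by decide +kernel) (fun i => ⟨i, i.2, Fin.ext (Nat.mod_eq_of_lt i.2)⟩) fun a ha =>
    congrArg (fun b => sp (em b)) ((by decide +kernel : ∀ a < 7, a = W.E7.toTy.σ a) a ha)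

theorem cls [Fintype W7] {y : W7 → ℂ} (hy : W.Inv CoxeterMatrix.E₇.toCoxeterSystem 1 Set.univ y) {g c : ℕ} (t : ℕ) {k : ℕ}
    (h : W.clsOK W.E7 (dN 64 g ++ dN 64 n0 ++ dN 64 c) (256 * t + k) = true) (hk : k < 256 := by decide) :
    y (el g * w0 * el c) = y (W.el CoxeterMatrix.E₇.toCoxeterSystem W.E7 em 1 k) := by
  have h1 := (fit.cls W.E7_good h).2.2 y hy
  rwa [Nat.mul_add_mod, Nat.mod_eq_of_lt hk, mul_one, List.map_append, List.map_append, wordProd_append, wordProd_append,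
    ← eN_eq, ← eN_eq, ← eN_eq] at h1

/-- the leaf test -/
def leaf (rem : ℤ) (v : List ℤ) : Bool :=
  (fun s => decide (s = 0) || decide (rem < 36) && decide (s % 5 ≠ 0))
    (W.nth 0 v 0 + 3 * W.nth 0 v 1 + 3 * W.nth 0 v 2 + W.nth 0 v 3)

theorem enum_ok : W.E7_L.enum W.E7_ce ([10, 23, 43, 58].map W.E7_L.col) 72 leaf = true := by decide +kernel

theorem boxA {z : W7} (hz : z = 1 ∨ z = zn) : BoxA z := by
  intro _ _ y hl hy r hr h1 Z hZ n hn h0
  have hI : W.Inv CoxeterMatrix.E₇.toCoxeterSystem 1 Set.univ y := fun g _ u => by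
    rw [← hy g⁻¹, inv_mul_cancel_left, inv_inv]
    rfl
  let _ := Fintype.ofFinite (WJ CoxeterMatrix.E₇.toCoxeterSystem Set.univ)
  obtain ⟨a, h2, h3⟩ := W.E7_ok.out fit hl hI
  have e := Equiv.subtypeUnivEquiv (mem_WJ_univ CoxeterMatrix.E₇.toCoxeterSystem)
  rw [Fintype.sum_equiv (Equiv.subtypeUnivEquiv (mem_WJ_univ _)) _ (fun u => ‖y u‖ ^ 2) fun _ => by rw [mul_one]; rfl,
    Nat.card_congr e, Nat.card_eq_fintype_card] at h3
  rw [h3, inv_mul_cancel_left₀ (Nat.cast_ne_zero.2 Fintype.card_ne_zero)] at hr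
  subst hr
  have h4 : W.E7_L.nrm a ≤ 1 := by exact_mod_cast h1
  obtain ⟨rem, v, h5, h6, h7⟩ := W.Lat.enum_val W.E7_ceOK enum_ok a (show ((72 : ℤ) : ℚ) * _ ≤ (72 : ℤ) by
    push_cast
    linarith)
  have h8 : ∀ k < 60, (v k : ℂ) = 6 * y (W.el CoxeterMatrix.E₇.toCoxeterSystem W.E7 em 1 k) := fun k hk => by
    have h8 := congrArg (Rat.cast : ℚ → ℂ) (h6 k)
    rw [Rat.cast_intCast, Rat.cast_mul, Rat.cast_intCast, ← h2 k hk] at h8
    exact h8.trans (congrArg (· * _) (by norm_num : (((6 : ℤ) : ℤ) : ℂ) = 6))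
  have h9 : ∀ v ∈ Sb y0, ∀ x, Z (v * x * v⁻¹) = Z x := fun v _ x => Int.cast_injective (α := ℂ) (by
    rw [← hZ, ← hZ, ← hy v (x * z)]
    rcases hz with rfl | rfl
    · rw [mul_one, mul_one]
    · refine congrArg y (eq_of_ro ?_)
      simp only [mv_mul, mv_zn, mv, Matrix.mulVec_neg])
  have h10 := congrArg (Int.cast : ℤ → ℂ) (hn.symm.trans (sum_L h9 fun _ => rfl))
  have h11 : v 10 + 3 * v 23 + 3 * v 43 + v 58 = 48 * n := Int.cast_injective (α := ℂ) (by
    simp only [Int.cast_add, Int.cast_mul, Int.cast_ofNat, ← hZ, gk, List.getD_cons_succ, List.getD_cons_zero] at h10 ⊢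
    rw [h8 10 (by decide), h8 23 (by decide), h8 43 (by decide), h8 58 (by decide)]
    rcases hz with rfl | rfl
    · rw [← el_zero, cls hI 22832914492886994199148888195909 (k := 10) (by decide +kernel), cls hI 327069058547662049692896268206880 (k := 23) (by decide +kernel),
        cls hI 22832914492886994199148888195909 (k := 23) (by decide +kernel), cls hI 4994158528722082180512432928 (k := 43) (by decide +kernel),
        cls hI 312134851340622912689619744 (k := 43) (by decide +kernel), cls hI 4331742038 (k := 58) (by decide +kernel)] at h10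
      linear_combination -6 * h10
    · rw [zn, cls hI 273953059 (k := 58) (by decide +kernel), cls hI 5919217547266901144549732640 (k := 43) (by decide +kernel),
        cls hI 19574860774202832535765792 (k := 43) (by decide +kernel), cls hI 5254571167773058554695408453567253 (k := 23) (by decide +kernel),
        cls hI 20456345252545935341333013414688 (k := 23) (by decide +kernel), cls hI 5254571167773058554695408453567253 (k := 10) (by decide +kernel)] at h10
      linear_combination -6 * h10)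
  have h12 : (decide (v 10 + 3 * v 23 + 3 * v 43 + v 58 = 0) ||
    decide (rem < 36) && decide ((v 10 + 3 * v 23 + 3 * v 43 + v 58) % 5 ≠ 0)) = true := h7
  simp only [h11, Bool.or_eq_true, Bool.and_eq_true, decide_eq_true_eq] at h12
  have h13 : (rem : ℚ) < 36 := by exact_mod_cast (show rem < 36 by omega)
  have h14 : (rem : ℚ) = (72 : ℤ) - (72 : ℤ) * W.E7_L.nrm a := h5
  refine ⟨?_, by omega⟩
  have h15 : 1 / 2 < W.E7_L.nrm a := by
    push_cast at h14
    linarith
  have h16 : ((1 / 2 : ℚ) : ℝ) < (W.E7_L.nrm a : ℚ) := Rat.cast_lt.2 h15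
  simpa using h16

/-- **The row `E₇` for `p = 5`.** -/
theorem row_e7 : Row 5 (ChevX 5 chevE7 0) := row_e7_of fun _ => boxA

end Cfsg.Agent.LV.E7
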