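import Cfsg.Agent.LV.E7.Main
import Cfsg.Agent.LV.E6.Fr
import Cfsg.Agent.S1064

/-!
# LV, `E₇`, `p = 5`: the row from the box `BoxA` (helper14)
-/

set_option autoImplicit false
set_option linter.unusedSectionVars false
set_option maxRecDepth 100000

namespace Cfsg.Agent.LV.E7

open CoxeterSystem Cfsg Cfsg.Lie Matrix Cfsg.Agent.Nodes.RGDChev Cfsg.Agent.KZ.DatX Cfsg.Agent.KZ.Exc Cfsg.Agent.KZ.Exc.Gr
  Cfsg.Agent.KZ.Exc.EFr Cfsg.Agent.DL Cfsg.Agent.DL.PP Cfsg.Agent.KZ.Lie Cfsg.Agent.LV.Blk Cfsg.Agent.LV.E6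

/-- the code of `-1` -/
def nz : ℕ := 703299815264971223133355179270069978210642776869783250734

/-- the element `-1` -/
noncomputable def zn : W7 := el nz

theorem mv_zn (y : Fin 7 → ℤ) : mv zn y = -y := by
  rw [mv, show wm hpE7 zn = -1 from wm_of (by decide +kernel), neg_mulVec, one_mulVec]

theorem exists_z {q : ℤ} (hq : ¬ 5 ∣ q) : ∃ z Q, (z = 1 ∨ z = zn) ∧ (∀ y, q • mv z y = Q • y) ∧ (Q = q ∨ Q = -q) ∧
    (Q % 5 = 1 ∨ Q % 5 = 2) := by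
  by_cases h : q % 5 = 1 ∨ q % 5 = 2
  · exact ⟨1, q, .inl rfl, fun y => by rw [mv_one], .inl rfl, h⟩
  · exact ⟨zn, -q, .inr rfl, fun y => by rw [mv_zn, smul_neg, neg_smul], .inr rfl, by omega⟩

/-- the order polynomial -/
def ord7 (Q : ℤ) : ℤ :=
  Q ^ 63 * (Q ^ 2 - 1) * (Q ^ 6 - 1) * (Q ^ 8 - 1) * (Q ^ 10 - 1) * (Q ^ 12 - 1) * (Q ^ 14 - 1) * (Q ^ 18 - 1)

theorem fac_ord7 {Q : ℤ} (h : Q % 5 = 2) :
    (ord7 Q).natAbs.factorization 5 = ((Q ^ 2 + 1) ^ 2 * (Q - 1) ^ 3).natAbs.factorization 5 := by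
  rw [show ord7 Q = (Q ^ 2 + 1) ^ 2 * (Q ^ 63 * (Q ^ 2 - 1) * (Q ^ 6 - 1) * ((Q ^ 2 - 1) * (Q ^ 4 + 1)) * (Q ^ 10 - 1) *
    ((Q ^ 6 - 1) * (Q ^ 4 - Q ^ 2 + 1)) * (Q ^ 14 - 1) * (Q ^ 18 - 1)) by rw [ord7]; ring]
  refine (fac_mul 2 (by positivity) ?_).trans (fac_mul 2 (by positivity) ?_).symm <;>
  · push_cast
    rw [cast_of h]
    decide +kernel

variable {p : ℕ} [Fact p.Prime] {k : Type} [Field k] [CharP k p] [IsAlgClosed k] {q Q : ℤ} (X : XF hpE7 p k (q • 1)) {z : W7}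
  (h : ∀ y, q • mv z y = Q • y)
include h

theorem Wm_mul_z (u : W7) : (X.D.Wm (u * z : W7) * X.D.Mx : Matrix (Fin 7) (Fin 7) ℤ) = Q • wm hpE7 u :=
  (congrArg (fun A : Matrix (Fin 7) (Fin 7) ℤ => A * q • 1) (Wm_eq hpE7 X _)).trans
    (show wm hpE7 (u * z) * q • 1 = Q • wm hpE7 u from ext_of_mulVec_single fun i => by rw [mul_smul_comm, mul_one, smul_mulVec, smul_mulVec, ← mv, mv_mul, ← mulVec_smul, h, mulVec_smul])

theorem ordT_w0 : ordT X.D (w0 * z : W7) = ((Q ^ 2 + 1) ^ 2 * (Q - 1) ^ 3).natAbs := by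
  rw [← det_w0, ← wm_w0]
  exact congrArg (fun A : Matrix (Fin 7) (Fin 7) ℤ => (A - 1).det.natAbs) (Wm_mul_z X h w0)

theorem not_ab [Fintype ↥(GF X.F ⊤)] (hp : 5 ≠ p) (hQ : Q % 5 = 1) : ¬ AbS 5 ↥(GF X.F ⊤) := by
  have h1 : el 3740 ^ 5 ^ 1 = 1 :=
    eq_of_ro (List.ofFn_injective ((ap_iter _ _ _).symm.trans (by rw [mv_one]; decide +kernel)))
  have h2 : mv (el 3740) (Pi.single 0 1) = ![-1, 0, 1, 0, 0, 0, 0] := mv_el (by decide +kernel)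
  generalize el 3740 = v at h1 h2
  refine not_abS (D := X.D) (w := (1 * z : W7)) (v := v) Nat.prime_five hp
    ((tc_iff X).2 (eq_of_ro (smul_right_injective _ (q_ne X) ?_))) ⟨1, h1⟩ ⟨1, Pi.single (0 : Fin 7) 1, ?_, ?_⟩
  · show q • mv _ ro = q • mv _ ro
    rw [one_mul, mv_mul, mv_mul, h, ← mulVec_smul, ← mulVec_smul, h]
  · have h4 : ∀ (A : Matrix (Fin 7) (Fin 7) ℤ) (i : Fin 7), A = Q • wm hpE7 1 →
        ((5 : ℕ) : ℤ) ^ 1 ∣ ((A - 1) *ᵥ Pi.single (0 : Fin 7) 1) i := fun A i e => by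
      rw [e, sub_mulVec, smul_mulVec, ← mv, mv_one, one_mulVec, Pi.sub_apply, Pi.smul_apply, smul_eq_mul, ← sub_one_mul]
      exact Dvd.dvd.mul_right (by omega) _
    exact fun i => h4 _ i (Wm_mul_z X h 1)
  · have h4 : ∀ A : Matrix (Fin 7) (Fin 7) ℤ, A = wm hpE7 v →
        ¬ ∀ i : Fin 7, ((5 : ℕ) : ℤ) ^ 1 ∣ ((A - 1) *ᵥ Pi.single (0 : Fin 7) 1) i := fun A e => by
      rw [e, sub_mulVec, ← mv, h2, one_mulVec]
      decide +kernel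
    exact h4 _ (Wm_eq hpE7 X v)

omit h

theorem row_e7_of (H : ∀ z, z = 1 ∨ z = zn → BoxA z) : Row 5 (ChevX 5 chevE7 0) := by
  rintro M hM S _ _ - - ⟨F, _, _, h1, -, ⟨i⟩⟩ hA - -
  obtain ⟨p, e, _, _, -, he, hF, -⟩ := Ex.exists_closure F
  have hp : 5 ≠ p := fun h => h1 (hF ▸ h ▸ dvd_pow_self 5 he.ne')
  have h0 := pow_pos (Fact.out : p.Prime).pos e
  obtain ⟨k, _, _, _, X, ⟨s⟩⟩ := (has_E7 hF).congr i
  obtain ⟨z, Q, hz, h, hQ, h5⟩ := exists_z (q := (p : ℤ) ^ e) fun h => h1 (hF ▸ by exact_mod_cast h)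
  have := X.finite
  have := Fintype.ofFinite ↥(GF X.F ⊤)
  have h2 : ¬ 5 ∣ Nat.gcd 2 (p ^ e - 1) := fun e => absurd (e.trans (Nat.gcd_dvd_left _ _)) (by decide)
  have h3 : ¬ 5 ∣ s.ov.hom.range.index := fun e => h2 (s.ov.prime_dvd Nat.prime_five e)
  have h4 : Nat.card S ≠ 0 := left_ne_zero_of_mul (s.ov.card_eq ▸ Nat.card_pos.ne')
  have h6 : Nat.gcd 2 (p ^ e - 1) * Nat.card S = (ord7 Q).natAbs := by
    rw [Nat.card_congr i.toEquiv, S1064.result hF, ← Int.natAbs_natCast (_ * _)]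
    simp only [Nat.cast_mul, cast_sub h0, Nat.cast_pow]
    rcases hQ with rfl | rfl
    · rfl
    · rw [← Int.natAbs_neg, ord7]
      congr 1
      ring
  rcases h5 with h5 | h5
  · exact absurd (abS_up s.sit Nat.prime_five ((Subgroup.ext fun _ => s.ov.mem_range.symm : s.sit.H1 = s.ov.hom.range) ▸ h3) (by
      rw [(MonoidHom.ker_eq_bot_iff _).2 s.sit_π_inj, Subgroup.card_bot]
      decide) hA) (not_ab X h hp h5)
  · refine hz_down s.sit hM (Su.hz ⟨h, by omega⟩ (H z hz) hM hp ?_)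
    refine Eq.trans ?_ (congrArg (Nat.factorization · 5) (ordT_w0 X h)).symm
    rw [← fac_ord7 h5, s.ov.card_eq, ← h6, Nat.factorization_mul h4 fun e => h3 (by rw [e]; exact dvd_zero _),
      Nat.factorization_mul (fun e => h2 (by rw [e]; exact dvd_zero _)) h4, Finsupp.add_apply, Finsupp.add_apply,
      Nat.factorization_eq_zero_of_not_dvd h2, Nat.factorization_eq_zero_of_not_dvd h3, add_zero, zero_add]

end Cfsg.Agent.LV.E7
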