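import Cfsg.Agent.LV.E7.Lab
import Cfsg.Agent.LV.TF.Gen
import Cfsg.Agent.LV.Blk.Cub
import Cfsg.Agent.LV.T.Main
import Cfsg.Agent.KZ.Mts.Main

/-!
# LV, `E₇`, `p = 5`: height zero for the datum from the box `BoxA` (helper14)

`half_of_ne` : labels different from `1`; `sum_sq_le` : Bessel; `dvd_24` : free actions; `hz_GF`.
-/

set_option autoImplicit false
set_option linter.unusedSectionVars false
set_option maxHeartbeats 400000

namespace Cfsg.Agent.LV.E7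

open CoxeterSystem Cfsg Cfsg.Lie Matrix Cfsg.Agent.Nodes.RGDChev Cfsg.Agent.KZ.DatX Cfsg.Agent.KZ.Exc Cfsg.Agent.KZ.Exc.Gr
  Cfsg.Agent.KZ.Exc.EFr Cfsg.Agent.DL Cfsg.Agent.DL.PP Cfsg.Agent.KZ.Lie Cfsg.Agent.LV.Blk Cfsg.Agent.LV.Lab
  Cfsg.Agent.Tits.Roots Cfsg.Agent.Characters.Core Cfsg.Agent.Blocks Cfsg.Agent.Blocks.Local Cfsg.Agent.LV.T Function

variable {p : ℕ} [Fact p.Prime] {k : Type} [Field k] [CharP k p] [IsAlgClosed k]

section General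

variable {Y : Type} [Group Y] {N : Type} [Fintype N] [DecidableEq N] {ρ : Y →* GL N k} {F : MulAut Y} {G : Subgroup Y}
  {D : Datum p ρ F G}

theorem rel_it (v : D.W) (c : Lbl D) (j : ℕ) : Rel D (v ^ j) c ((ac D v)^[j] c) := by
  induction j with
  | zero => rw [pow_zero]; exact rel_one D c
  | succ j h => rw [pow_succ', iterate_succ_apply']; exact h.trans (rel_ac v _)

theorem dvd_free {v : D.W} {s a : ℕ} (hs : s.Prime) (h1 : v ^ s ^ (a + 1) = 1) (S : Finset (Lbl D)) (n : Lbl D → ℤ)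
    (hS : ∀ c ∈ S, ac D v c ∈ S) (hn : ∀ c ∈ S, n (ac D v c) = n c) (h2 : ∀ c ∈ S, ¬ Rel D (v ^ s ^ a) c c) :
    ((s ^ (a + 1) : ℕ) : ℤ) ∣ ∑ c ∈ S, n c := by
  have := Fact.mk hs
  refine TF.dvd_sum_per (ac D v) n (pow_pos hs.pos _) S hS hn fun c hc =>
    minimalPeriod_eq_prime_pow (fun e => h2 c hc ?_) ?_
  · have h3 := rel_it v c (s ^ a)
    rwa [e.eq] at h3
  · have h3 := rel_it v c (s ^ (a + 1))
    rw [h1] at h3
    exact (ac_eq.2 h3).symm.trans (ac_eq.2 (rel_one D c))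

variable [Fintype ↥(GF F G)] (f : Fr D) (χ : IrrCharacter ↥(GF F G))

theorem exists_bes [Fintype D.W] : ∃ g : D.W → ℝ, (∀ w, 0 ≤ g w) ∧ (∀ v w, g (v⁻¹ * w * D.Fw v) = g w) ∧
    ∑ w, g w ≤ Fintype.card D.W ∧ ∀ (w : D.W) (S : Finset (Lbl D)), ∑ c ∈ S, ‖yv f χ.1 c w‖ ^ 2 ≤ g w := by
  classical
  refine ⟨fun w => ∑ᶠ c, ‖yv f χ.1 c w‖ ^ 2, fun w => finsum_nonneg fun _ => sq_nonneg _, fun v w => ?_, ?_, fun w S => ?_⟩
  · refine finsum_eq_of_bijective (ac D v) ⟨fun a b e => ?_, fun a => ⟨_, ac_eq.2 (inv_inv v ▸ (rel_ac v⁻¹ a).symm)⟩⟩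
      fun c => by rw [yv_ac]
    exact (ac_eq.2 (rel_ac v a).symm).symm.trans (e ▸ ac_eq.2 (rel_ac v b).symm)
  · have h1 := bessel f χ.1
    rwa [classInner_irr_self χ.2, finsum_eq_sum_of_fintype, Complex.one_re, inv_mul_le_one₀ (Nat.cast_pos.2 Nat.card_pos),
      Nat.card_eq_fintype_card] at h1
  · have h5 : (support fun c => ‖yv f χ.1 c w‖ ^ 2).Finite :=
      Set.Finite.subset (s := {c | Fx D w c}) (finite_Fx D w) fun c hc => by_contra fun h => hc (by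
        beta_reduce
        rw [yv_zero f _ h, norm_zero, zero_pow two_ne_zero])
    beta_reduce
    rw [finsum_eq_sum_of_support_subset (s := S ∪ h5.toFinset) _ (by simp)]
    exact Finset.sum_le_sum_of_subset_of_nonneg Finset.subset_union_left fun _ _ _ => sq_nonneg _

theorem LS_eq_of_le {l : ℕ} (hl : l.Prime) {w w' : D.W} (hS : SylT D l w) (h : LS D l w ≤ LS D l w') :
    LS D l w = LS D l w' ∧ SylT D l w' := by
  have h2 := Subgroup.card_le_of_le h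
  have h3 := fact_T_le (D := D) l w'
  rw [card_LS hl, card_LS hl, Nat.pow_le_pow_iff_right hl.one_lt] at h2
  refine ⟨Subgroup.eq_of_le_of_card_ge h ?_, le_antisymm (hS.le.trans h2) h3⟩
  rw [card_LS hl, card_LS hl]
  exact Nat.pow_le_pow_right hl.pos (h3.trans hS.le)

theorem mL_fin {l : ℕ} {w : D.W} {S : Finset (Lbl D)} (hS : ∀ c, c ∈ S ↔ c ≠ 1 ∧ c ∈ LS D l w) (χ : ↥(GF F G) → ℂ) :
    mL f l w 1 χ = yv f χ 1 w + ∑ c ∈ S, yv f χ c w := by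
  classical
  let _ := Fintype.ofFinite (LS D l w)
  rw [mL_sum f (KZ.Lie.fx_one w), ← Finset.sum_insert (f := fun c => yv f χ c w) fun h => ((hS 1).1 h).1 rfl,
    Finset.sum_subtype (p := (· ∈ LS D l w)) (F := inferInstance) _ fun c => by
      rw [Finset.mem_insert, hS]
      exact ⟨fun h => h.elim (· ▸ one_mem _) (·.2), fun h => or_iff_not_imp_left.2 fun e => ⟨e, h⟩⟩]
  simp only [one_mul, yv]

theorem exists_fin (l : ℕ) (w : D.W) : ∃ S : Finset (Lbl D), ∀ c, c ∈ S ↔ c ≠ 1 ∧ c ∈ LS D l w := by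
  classical
  exact ⟨(show (LS D l w).carrier.Finite from finite_LS l w).toFinset.erase 1, fun c =>
    Finset.mem_erase.trans (and_congr_right fun _ => Set.Finite.mem_toFinset _)⟩

/-- a family of Sylow tori -/
theorem sum_mL {M : Ideal AlgInt} {l : ℕ} (hM : IsPModular l M) (hp : l ≠ p) {ι : Type} [Fintype ι] {w : ι → D.W}
    (hS : ∀ i, SylT D l (w i)) (hc : ¬ l ∣ Fintype.card ι) {χ : IrrCharacter ↥(GF F G)} (hχ : χ ∈ principalBlock M ↥(GF F G))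
    (hd : l ∣ charDegree χ.1) {m : ℤ} (hm : ∑ i, mL f l (w i) 1 χ = m) : m ≠ 0 ∧ (l : ℤ) ∣ m := by
  have := isPrime_of_isPModular hM
  constructor
  · rintro rfl
    have h1 := memLocalIdeal_sum_sub_sum (s := Finset.univ) fun i _ => prin_quot f hM hp (hS i) hχ
    rw [← Finset.sum_div, hm, Int.cast_zero, zero_div, Finset.sum_const, Finset.card_univ, nsmul_one] at h1
    exact hc ((memLocalIdeal_natCast_iff hM _).1 ((memLocalIdeal_iff_of_sub h1).1 memLocalIdeal_zero))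
  · choose μ hμ using fun i => mL_int f (l := l) (KZ.Lie.fx_one (w i)) (Uni.gen_of_irr χ.2)
    simp only [hμ] at hm
    rw [← show ∑ i, μ i = m by exact_mod_cast hm]
    exact Finset.dvd_sum fun i _ => (prin_dvd_iff f hM hp (hS i) hχ (hμ i)).1 hd

end General

/-- `z F` acts as the scalar `Q ≡ 2` -/
structure Su (q : ℤ) (z : W7) (Q : ℤ) : Prop where
  eq : ∀ y, q • mv z y = Q • y
  dvd : 5 ∣ Q - 2

variable {q Q : ℤ} {X : XF hpE7 p k (q • 1)} {z : W7} (H : Su q z Q) {ξ : ℂˣ} {a b lam : Fin 7 → ℤ} {j : ℕ} {u v w : W7}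
  {c c' : Fin 7 → ℂˣ}
include H

variable (X) in
include X in
theorem Su.comm (v : W7) : z * v = v * z := eq_of_ro (smul_right_injective _ (q_ne X) (by
  show q • mv _ ro = q • mv _ ro
  rw [mv_mul, mv_mul, H.eq, ← mulVec_smul, ← mulVec_smul, H.eq]))

theorem Su.fx (hξ : IsPrimitiveRoot ξ (5 ^ j)) : Fx X.D (w * z : W7) (lb ξ a) ↔ Dv (5 ^ j) (mv w a - Q • a) := by
  have h1 : ∀ v, q • mv (w * z) v = Q • mv w v := fun v => by rw [mv_mul, ← mulVec_smul, H.eq, mulVec_smul]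
  simp only [fx_iff', h1, chr_sm, chr_mv, chr_eq_iff hξ]
  exact ⟨fun h => ((h.mv w).of_eq (by rw [mv_inv'])).symm, fun h => ((h.mv w⁻¹).of_eq (by rw [mv_inv])).symm⟩

theorem Su.tc (v w : W7) : Tc X.D v (w * z : W7) (v * w * v⁻¹ * z : W7) :=
  (tc_iff X).2 (by rw [mul_assoc _ z, H.comm X, ← mul_assoc, inv_mul_cancel_right, mul_assoc])

theorem Su.coL (h : Dv (5 ^ j) (mv w0 a - Q • a)) (i : Fin 7) (hi : yL i = 0) : 5 ^ j ∣ a i := by
  have h1 := h i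
  rw [Pi.sub_apply, w0_L a hi, Pi.smul_apply, smul_eq_mul, ← one_sub_mul] at h1
  obtain ⟨t, ht⟩ := H.dvd
  exact (IsCoprime.pow_left ⟨-t, -1, by linear_combination ht⟩).dvd_of_dvd_mul_left h1

theorem Su.lev (hξ : IsPrimitiveRoot ξ (5 ^ j)) (hl : 0 ≤ lam) (hb : ∀ i, lam i = 0 → b i = 0) (hw : mv w b = lam)
    (hF : Fx X.D (w * z : W7) (lb ξ a)) (ha : ∀ i, lam i = 0 → 5 ^ j ∣ a i) : LeviOK X.D lam (w * z : W7) (lb ξ a) :=
  leviOK X hξ hl (b := mv z⁻¹ b) (fun i hi => by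
    have h1 := congrFun (H.eq (mv z⁻¹ b)) i
    rw [mv_inv', Pi.smul_apply, hb i hi, smul_zero, Pi.smul_apply, smul_eq_mul, eq_comm, mul_eq_zero] at h1
    exact h1.resolve_left fun e => absurd (e ▸ H.dvd) (by decide)) (by rw [mv_mul, mv_inv', hw]) hF ha

omit H in
variable (X) in
include X in
theorem exists_lb0 (hc : IsL 5 c) : ∃ j ξ a, IsPrimitiveRoot ξ (5 ^ j) ∧ c = lb ξ a := by
  by_cases h : c = 1
  · exact ⟨0, 1, 0, IsPrimitiveRoot.one, h.trans (lb_zero 1).symm⟩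
  · obtain ⟨j, ξ, a, h1, -, h2⟩ := exists_lb X hc h
    exact ⟨_, ξ, a, h1, h2⟩

variable [Fintype ↥(GF X.F ⊤)] {f : Fr X.D} {χ : IrrCharacter ↥(GF X.F ⊤)} {Z Z' : W7 → ℤ}

theorem Su.rel_L (hc : c ∈ LS X.D 5 (w0 * z : W7)) (hu : u ∈ Sb yL) : Rel X.D u c c := by
  obtain ⟨j, ξ, a, h1, rfl⟩ := exists_lb0 X hc.2
  exact (rel_lb X h1).2 (fix_mod posL (H.coL ((H.fx h1).1 hc.1)) hu)

theorem Su.mem_LS (hv : Cz v) (hc : c ∈ LS X.D 5 (w0 * z : W7)) (h : Rel X.D v c c') : c' ∈ LS X.D 5 (w0 * z : W7) :=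
  ⟨fx_of_tc ((tc_iff X).2 (by rw [mul_assoc, H.comm X, ← mul_assoc, ← hv.1, mul_assoc])) h hc.1, Cj.isL ⟨v, h⟩ hc.2⟩

theorem Su.LS_eq (hS : SylT X.D 5 (w0 * z : W7)) (hu : u ∈ Sb yL) :
    LS X.D 5 (w0 * z : W7) = LS X.D 5 (u * w0 * z : W7) ∧ SylT X.D 5 (u * w0 * z : W7) :=
  LS_eq_of_le Nat.prime_five hS fun _ hc => ⟨mul_assoc u w0 z ▸ hc.1.mul (H.rel_L hc hu), hc.2⟩

theorem Su.Z_conj (hZ : ∀ w : W7, yv f χ.1 c (w * z : W7) = Z w) (hZ' : ∀ w : W7, yv f χ.1 c' (w * z : W7) = Z' w)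
    (h : Rel X.D v c c') (x : W7) : Z' (v * x * v⁻¹) = Z x :=
  Int.cast_injective (α := ℂ) ((hZ' _).symm.trans ((yv_conj f χ.1 (H.tc v x) h).symm.trans (hZ x)))

variable [Fintype (Sb yL)]

theorem Su.sum_conj (hZ : ∀ w : W7, yv f χ.1 c (w * z : W7) = Z w) (hZ' : ∀ w : W7, yv f χ.1 c' (w * z : W7) = Z' w)
    (h : Rel X.D v c c') (hv : Cz v) : ∑ u : Sb yL, Z' (u * w0) = ∑ u : Sb yL, Z (u * w0) := by
  refine (Finset.sum_bij (fun (u : Sb yL) _ => (⟨v * u * v⁻¹, (Subgroup.mem_normalizer_iff.1 hv.2 u).1 u.2⟩ : Sb yL))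
    (fun _ _ => Finset.mem_univ _) (fun a _ b _ e => ?_) (fun u _ => ⟨⟨v⁻¹ * u * v⁻¹⁻¹,
      (Subgroup.mem_normalizer_iff.1 (inv_mem hv.2) u).1 u.2⟩, Finset.mem_univ _, Subtype.ext (by simp [mul_assoc])⟩)
    fun u _ => ?_).symm
  · exact Subtype.ext (mul_left_cancel (mul_right_cancel (congrArg Subtype.val e)))
  · rw [← H.Z_conj hZ hZ' h]
    congr 1
    rw [← mul_assoc, mul_assoc _ w0, mul_assoc _ v⁻¹, eq_mul_inv_of_mul_eq hv.1.symm, ← mul_assoc v⁻¹, ← mul_assoc v⁻¹,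
      inv_mul_cancel, one_mul, ← eq_mul_inv_of_mul_eq hv.1.symm]

theorem Su.int_L (hA : Api f) (hZ : ∀ w : W7, yv f χ.1 c (w * z : W7) = Z w) (hc : c ∈ LS X.D 5 (w0 * z : W7)) :
    ∃ n : ℤ, ∑ u : Sb yL, Z (u * w0) = n * 8 := by
  obtain ⟨j, ξ, a, h1, rfl⟩ := exists_lb0 X hc.2
  have h2 := avg_int hA hZ (H.lev h1 posL (b := ![7, 0, 3, -2, 0, -5, 0]) (by decide) (mv_el (by decide +kernel)) hc.1
    (H.coL ((H.fx h1).1 hc.1)))
  rwa [cards.2.1] at h2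

theorem Su.half_std (hA : Api f) (hξ : IsPrimitiveRoot ξ (5 ^ (j + 1))) (hZ : ∀ w : W7, yv f χ.1 (lb ξ a) (w * z : W7) = Z w)
    (hF : Fx X.D (w0 * z : W7) (lb ξ a)) (ha : Dv 5 (a - y0)) (h0 : ∑ u : Sb yL, Z (u * w0) ≠ 0) :
    1 / 2 ≤ nr f χ.1 (lb ξ a) := by
  have := finite_W hpE7 CoxeterMatrix.E₇.toCoxeterSystem
  obtain ⟨n, hn⟩ := H.int_L hA hZ ⟨hF, isL_lb hξ a⟩
  have hn0 : n ≠ 0 := fun e => h0 (by rw [hn, e, zero_mul])
  have h1 := (H.fx hξ).1 hF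
  have h2 := H.coL h1
  have h3 : ∀ r : Fin 7 → ℤ, X.D.Rt r → 5 ^ (j + 1) ∣ r ⬝ᵥ a → r ⬝ᵥ y0 = 0 := fun r hr e => dot_y0_zero X hr (by
    have h3 := dvd_sub ((dvd_pow_self 5 j.succ_ne_zero).trans e) (ha.dot r)
    rwa [dotProduct_sub, sub_sub_cancel] at h3)
  by_cases hK : Dv (5 ^ (j + 1)) ![0, 0, a 2, a 3, 0, 0, 0]
  · have h4 : ∀ i, y0 i = 0 → 5 ^ (j + 1) ∣ a i := fun i hi => by
      rcases (by decide : ∀ i, y0 i = 0 → yL i = 0 ∨ i = 2 ∨ i = 3) i hi with e | rfl | rfl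
      exacts [h2 i e, hK 2, hK 3]
    have h5 : ∀ v ∈ Sb y0, Rel X.D v (lb ξ a) (lb ξ a) := fun v hv => (rel_lb X hξ).2 (fix_mod pos0 h4 hv)
    have h6 : ∀ v ∈ Sb y0, Fx X.D (v * w0 * z : W7) (lb ξ a) := fun v hv => mul_assoc v w0 z ▸ hF.mul (h5 v hv)
    have := Fintype.ofFinite (Sb y0)
    have := Fintype.ofFinite (Sb y2)
    have := Fintype.ofFinite (Sb y3)
    obtain ⟨m, hm⟩ := avg_int hA hZ (H.lev hξ pos0 (b := ![3, 0, 0, 0, 0, -2, 0]) (by decide) (mv_el (by decide +kernel)) hF h4)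
    obtain ⟨d, hd⟩ := avg_int hA hZ (H.lev hξ pos2 (w := el 11 * w0) (b := ![12, 1, 3, -5, 3, -8, 0]) (by decide)
      ((mv_mul _ _ _).trans ((congrArg _ (mv_el (z := ![1, 1, 3, -2, 3, 1, 0]) (by decide +kernel))).trans
        (mv_el (by decide +kernel)))) (h6 _ (mv_el (by decide +kernel))) fun i hi => h4 i (by revert i; decide))
    obtain ⟨e, he⟩ := avg_int hA hZ (H.lev hξ pos3 (w := el 10 * w0) (b := ![5, -1, 2, 0, 0, -5, 0]) (by decide)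
      ((mv_mul _ _ _).trans ((congrArg _ (mv_el (z := ![2, -1, -1, 2, 0, 1, 0]) (by decide +kernel))).trans
        (mv_el (by decide +kernel)))) (h6 _ (mv_el (by decide +kernel))) fun i hi => h4 i (by revert i; decide))
    rw [cards.1] at hm
    rw [cards.2.2.1] at hd
    rw [cards.2.2.2] at he
    have h7 := norm_H (fun v hv => H.Z_conj hZ hZ (h5 v hv)) hm hn hd he hn0
    refine half_le hZ (w := w0) (fun u => st_le X hξ h3) ?_
    rw [cards.1]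
    omega
  · obtain ⟨i, hi, b, h4, h5⟩ := exists_pow _ hK
    have h6 : ∀ x : ℤ, 5 ^ (j + 1) ∣ 5 ^ i * x → 5 ∣ x := fun x e =>
      (mul_dvd_mul_iff_left (pow_ne_zero i (by decide : (5 : ℤ) ≠ 0))).1 ((pow_succ (5 : ℤ) i ▸ pow_dvd_pow 5 hi).trans e)
    have e2 : a 2 = 5 ^ i * b 2 := congrFun h4 2
    have e3 : a 3 = 5 ^ i * b 3 := congrFun h4 3
    have h7 : 5 ∣ b 2 + b 3 - Q * b 3 := h6 _ (by
      have h7 := h1 3
      rw [Pi.sub_apply, (w0_co a).2.2.2.1, Pi.smul_apply, smul_eq_mul, e2, e3] at h7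
      exact h7.trans (dvd_of_eq (by ring)))
    have h8 : 5 ∣ b 2 - b 3 := by
      have h8 := dvd_add h7 (H.dvd.mul_right (b 3))
      exact h8.trans (dvd_of_eq (by ring))
    have h9 : ¬ 5 ∣ b 2 := fun e => h5 fun s => by
      have h9 : ∀ s, ![0, 0, a 2, a 3, 0, 0, 0] s = 0 → 5 ∣ b s := fun s e => by
        rw [h4, Pi.smul_apply, smul_eq_mul, mul_eq_zero, or_iff_right (pow_ne_zero i (by decide))] at e
        exact e ▸ dvd_zero _
      fin_cases s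
      exacts [h9 0 rfl, h9 1 rfl, e, (show 5 ∣ b 3 by omega), h9 4 rfl, h9 5 rfl, h9 6 rfl]
    refine half_le hZ (w := w0) (fun u => st_le X hξ (lam := yL) fun r hr e => ?_) ?_
    · have h10 := h3 r hr e
      have h11 := dot_zero X hr pos0 h10 (b := ![a 0, 0, 0, 0, 0, a 5, 0]) fun s hs => by
        fin_cases s <;> first | rfl | exact absurd hs (by decide)
      have h12 : 5 ∣ r 2 * b 2 + r 3 * b 3 := h6 _ (by
        have h12 := dvd_sub (dvd_sub (dvd_sub e ((h2 1 rfl).mul_left (r 1))) ((h2 4 rfl).mul_left (r 4)))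
          ((h2 6 rfl).mul_left (r 6))
        simp only [dotProduct, Fin.sum_univ_seven, cons_val, mul_zero, add_zero] at h11 h12
        refine h12.trans (dvd_of_eq ?_)
        rw [e2, e3]
        linear_combination h11)
      have h13 : (5 : ℤ) ∣ (r 2 + r 3) * b 2 := (dvd_add h12 (h8.mul_left (r 3))).trans (dvd_of_eq (by ring))
      have h14 := (Int.prime_iff_natAbs_prime.2 (show (5 : ℤ).natAbs.Prime from Nat.prime_five)).dvd_or_dvd h13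
      rw [dot_y0] at h10
      have h15 := abs_lt.1 ((rt_bd X hr).2 h10)
      simp only [yL, dotProduct, Fin.sum_univ_seven, cons_val, mul_zero, mul_one, add_zero]
      omega
    · have h10 : |∑ u : Sb yL, Z (u * w0)| ≤ ∑ u : Sb yL, Z (u * w0) ^ 2 := (Finset.abs_sum_le_sum_abs _ _).trans
        (Finset.sum_le_sum fun u _ => (Int.le_self_sq _).trans_eq (sq_abs _))
      rw [hn, abs_le] at h10
      rw [cards.2.1]
      omega

/-- **The labels different from `1`.** -/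
theorem Su.half_of_ne (hA : Api f) (hZ : ∀ w : W7, yv f χ.1 c (w * z : W7) = Z w) (hc : c ∈ LS X.D 5 (w0 * z : W7))
    (h1 : c ≠ 1) (h0 : ∑ u : Sb yL, Z (u * w0) ≠ 0) : 1 / 2 ≤ nr f χ.1 c := by
  obtain ⟨j, ξ, a, hξ, h2, rfl⟩ := exists_lb X hc.2 h1
  obtain ⟨v, h3, h4⟩ := exists_cj (y := a) (fun i => by
    have h3 := dvd_add ((dvd_pow_self 5 j.succ_ne_zero).trans ((H.fx hξ).1 hc.1 i)) (H.dvd.mul_right (a i))
    exact h3.trans (dvd_of_eq (by simp only [Pi.sub_apply, Pi.smul_apply, smul_eq_mul]; ring))) h2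
  have h5 : Rel X.D v (lb ξ a) (lb ξ (mv v a)) := (rel_lb X hξ).2 fun i => by rw [sub_self]; exact dvd_zero _
  choose Z' hZ' using fun w : W7 => yv_int f (Uni.gen_of_irr χ.2) (lb ξ (mv v a)) (w * z : W7)
  exact (H.half_std hA hξ hZ' (H.mem_LS h3 hc h5).1 h4 (H.sum_conj hZ hZ' h5 h3 ▸ h0)).trans_eq (nr_cj f χ.1 ⟨v, h5⟩).symm

variable {Z : (Fin 7 → ℂˣ) → W7 → ℤ} (hZ : ∀ c (w : W7), yv f χ.1 c (w * z : W7) = Z c w) {n : (Fin 7 → ℂˣ) → ℤ}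
  {S : Finset (Fin 7 → ℂˣ)} (hn : ∀ c ∈ S, ∑ u : Sb yL, Z c (u * w0) = n c * 8)
include hZ hn

/-- **Bessel** -/
theorem Su.sum_sq_le : ∑ c ∈ S, n c ^ 2 ≤ 96 := by
  let _ := Fintype.ofFinite X.D.W
  let _ : Fintype W7 := ‹Fintype X.D.W›
  obtain ⟨g, h1, h2, h3, h4⟩ : ∃ g : W7 → ℝ, (∀ w, 0 ≤ g w) ∧ (∀ v w : W7, g (v⁻¹ * w * v) = g w) ∧
      ∑ w, g w ≤ Fintype.card W7 ∧ ∀ (w : W7) (S : Finset (Fin 7 → ℂˣ)), ∑ c ∈ S, ‖yv f χ.1 c w‖ ^ 2 ≤ g w := by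
    have h := exists_bes f χ
    rw [Fw_one] at h
    exact h
  have h5 := sum_le (stab_y0 X) (φ := fun w => g (w * z)) (fun _ => h1 _) fun v w => by
    rw [← h2 v, mul_assoc _ _ v, mul_assoc _ z, H.comm X,
      ← mul_assoc _ v z, inv_mul_cancel_right, mul_assoc v, inv_mul_cancel_left]
  rw [Fintype.sum_equiv (Equiv.mulRight z) (fun w => g (w * z)) g fun _ => rfl] at h5
  have h6 : ∑ u : Sb yL, g (u * w0 * z) ≤ 768 :=
    le_of_mul_le_mul_left (h5.trans (by linarith)) (Nat.cast_pos.2 Fintype.card_pos)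
  have h7 : ((∑ u : Sb yL, ∑ c ∈ S, Z c (u * w0) ^ 2 : ℤ) : ℝ) ≤ 768 := by
    refine le_trans ?_ h6
    rw [Int.cast_sum]
    refine Finset.sum_le_sum fun u _ => le_trans (le_of_eq ?_) (h4 _ S)
    rw [Int.cast_sum]
    exact Finset.sum_congr rfl fun c _ => by rw [hZ c, Complex.norm_intCast, sq_abs, Int.cast_pow]
  have h8 : ∑ c ∈ S, 8 * n c ^ 2 ≤ ∑ c ∈ S, ∑ u : Sb yL, Z c (u * w0) ^ 2 := Finset.sum_le_sum fun c hc => by
    have h8 := sq_sum_le_card_mul_sum_sq (s := Finset.univ) (f := fun u : Sb yL => Z c (u * w0))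
    rw [hn c hc, Finset.card_univ, ← Nat.card_eq_fintype_card, cards.2.1, Nat.cast_ofNat] at h8
    linarith
  rw [← Finset.mul_sum, Finset.sum_comm] at h8
  have h9 : ∑ u : Sb yL, ∑ c ∈ S, Z c (u * w0) ^ 2 ≤ 768 := by exact_mod_cast h7
  omega

theorem Su.dvd_24 (hS : ∀ c, c ∈ S ↔ c ≠ 1 ∧ c ∈ LS X.D 5 (w0 * z : W7)) : 24 ∣ ∑ c ∈ S, n c := by
  have h1 : ∀ v, Cz v → ∀ c ∈ S, ac X.D v c ∈ S := fun v hv c hc => (hS _).2
    ⟨fun e => ((hS c).1 hc).1 (Cj.eq_one (D := X.D) ⟨_, e ▸ (rel_ac (D := X.D) v c).symm⟩),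
      H.mem_LS hv ((hS c).1 hc).2 (rel_ac (D := X.D) v c)⟩
  have h2 : ∀ v, Cz v → ∀ c ∈ S, n (ac X.D v c) = n c := fun v hv c hc => by
    have h2 := H.sum_conj (hZ c) (hZ _) (rel_ac (D := X.D) v c) hv
    rw [hn c hc, hn _ (h1 v hv c hc)] at h2
    omega
  have h3 : ∀ v : W7, (∀ (N : ℤ) (a : Fin 7 → ℤ), (∀ i, yL i = 0 → N ∣ a i) → Dv N (mv v a - a) →
      Dv N ((2 : ℤ) • a) ∨ Dv N ((3 : ℤ) • a)) → ∀ c ∈ S, ¬ Rel X.D v c c := fun v hv c hc e => by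
    obtain ⟨h3, h4⟩ := (hS c).1 hc
    obtain ⟨j, ξ, a, hξ, h5, rfl⟩ := exists_lb X h4.2 h3
    refine h5 fun i => ?_
    rcases hv _ a (H.coL ((H.fx hξ).1 h4.1)) ((rel_lb X hξ).1 e) with h6 | h6 <;>
    · have h7 := (dvd_pow_self 5 j.succ_ne_zero).trans (h6 i)
      rw [Pi.smul_apply, smul_eq_mul] at h7
      omega
  have h4 := h3 (v8 ^ 4) fun N a ha e => .inl (((v8_neg ha).sub e).of_eq (by rw [two_smul]; abel))
  have h5 := h3 (v3 ^ 1) fun N a ha e => .inr (by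
    rw [pow_one] at e
    refine (((v3_sum ha).sub (e.mul (wm hpE7 v3))).sub (e.smul 2)).of_eq ?_
    rw [mv, mulVec_add, mulVec_sub]
    module)
  have h6 := cz_v8
  have h7 := cz_v3
  have h8 := v8_pow
  have h9 := v3_pow
  generalize v8 = x at h4 h6 h8
  generalize v3 = y at h5 h7 h9
  exact (show IsCoprime (8 : ℤ) 3 by norm_num).mul_dvd
    (dvd_free (D := X.D) (v := x) (a := 2) Nat.prime_two h8 S n (h1 _ h6) (h2 _ h6) h4)
    (dvd_free (D := X.D) (v := y) (a := 0) Nat.prime_three h9 S n (h1 _ h7) (h2 _ h7) h5)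

omit hZ hn

omit H in
variable (z) in
/-- **Box A** : the unipotent part -/
def BoxA : Prop := ∀ [Fintype W7] [Fintype (Sb yL)] {y : W7 → ℂ}, Lv CoxeterMatrix.E₇.toCoxeterSystem 1 Set.univ 1 y →
  (∀ x u, y (x * u * x⁻¹) = y u) → ∀ {r : ℝ}, r = (Fintype.card W7 : ℝ)⁻¹ * ∑ u, ‖y u‖ ^ 2 → r ≤ 1 →
    ∀ {Z : W7 → ℤ}, (∀ w, y (w * z) = Z w) → ∀ {n : ℤ}, ∑ u : Sb yL, Z (u * w0) = n * 8 → n ≠ 0 → 1 / 2 < r ∧ ¬ 5 ∣ n

omit [Fintype (Sb yL)] in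
/-- **Height zero** for the datum -/
theorem Su.hz (hB : BoxA z) {M : Ideal AlgInt} (hM : IsPModular 5 M) (hp : 5 ≠ p) (hS : SylT X.D 5 (w0 * z : W7)) :
    HZ0 5 M ↥(GF X.F ⊤) := fun χ hχ hd => by
  classical
  obtain ⟨f⟩ := nonempty_fr X.D
  have hA : Api f := KZ.Mts.boxApi f X.D_qs
  let _ := Fintype.ofFinite X.D.W
  let _ : Fintype W7 := ‹Fintype X.D.W›
  let _ := Fintype.ofFinite (Sb yL)
  choose Z hZ using fun (c : Fin 7 → ℂˣ) (w : W7) => yv_int f (Uni.gen_of_irr χ.2) c (w * z : W7)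
  choose! n hn using fun (c : Fin 7 → ℂˣ) (hc : c ∈ LS X.D 5 (w0 * z : W7)) => H.int_L hA (hZ c) hc
  obtain ⟨S, hs⟩ : ∃ S : Finset (Fin 7 → ℂˣ), ∀ c, c ∈ S ↔ c ≠ 1 ∧ c ∈ LS X.D 5 (w0 * z : W7) :=
    exists_fin (D := X.D) 5 _
  have hn' : ∀ c ∈ S, ∑ u : Sb yL, Z c (u * w0) = n c * 8 := fun c hc => hn c ((hs c).1 hc).2
  have h0 := hn 1 (one_mem _)
  obtain ⟨h1, h2⟩ := sum_mL f hM hp (fun u : Sb yL => (H.LS_eq hS u.2).2)
    (by rw [← Nat.card_eq_fintype_card, cards.2.1]; decide) hχ hd (m := (n 1 + ∑ c ∈ S, n c) * 8) (by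
      rw [add_mul, Finset.sum_mul, ← h0, ← Finset.sum_congr rfl hn', Finset.sum_comm, ← Finset.sum_add_distrib, Int.cast_sum]
      refine Finset.sum_congr rfl fun u _ => (mL_fin f (fun c => (H.LS_eq hS u.2).1 ▸ hs c) _).trans ?_
      rw [Int.cast_add, Int.cast_sum]
      exact congrArg₂ _ (hZ _ _) (Finset.sum_congr rfl fun c _ => hZ c _))
  by_cases e : n 1 = 0
  · have h3 := H.dvd_24 hZ hn' hs
    have h4 := H.sum_sq_le hZ hn'
    have h5 : |∑ c ∈ S, n c| ≤ ∑ c ∈ S, n c ^ 2 := (Finset.abs_sum_le_sum_abs _ _).trans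
      (Finset.sum_le_sum fun u _ => (Int.le_self_sq _).trans_eq (sq_abs _))
    rw [abs_le] at h5
    omega
  · have h3 := boxLv f X.D_qs _ (Uni.gen_of_irr χ.2)
    rw [Fw_one] at h3
    obtain ⟨h4, h5⟩ := hB h3 (fun x u => by
      have h4 := (std_one X.D_qs).yv_cls f χ.1 (Tits.Exchange.mem_WJ_univ _ x) u
      rwa [Fw_one] at h4) (nr_one f χ.1) (nr_le_one f χ.2 1) (hZ 1) h0 e
    rw [Finset.sum_eq_zero fun c hc => by_contra fun e' => ?_] at h2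
    · omega
    · obtain ⟨h6, h7⟩ := (hs c).1 hc
      have h8 := H.half_of_ne hA (hZ c) h7 h6 (by rw [hn c h7]; omega)
      have h9 := nr_add_le f χ.2 fun e => h6 (Cj.eq_one (D := X.D) e)
      linarith

end Cfsg.Agent.LV.E7
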