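import Cfsg.Agent.KZ.Exc.EOrb

/-!
# LV, `E₇`, `p = 5`: words as numbers, the coset `H w₀` of the parabolic subgroup of type `D₄ A₁` (helper14)

`el n` : the element with the code `n`, `ap n` : its action on lists; `tb` : the elements of `H = St y0` with their classes.
-/

set_option autoImplicit false
set_option maxRecDepth 100000

namespace Cfsg.Agent.LV.E7

open CoxeterSystem Cfsg Cfsg.Lie Matrix Cfsg.Agent.Nodes.RGDChev Cfsg.Agent.KZ.DatX Cfsg.Agent.KZ.Exc Cfsg.Agent.KZ.Exc.Gr

/-- the action on the cocharacters -/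
noncomputable abbrev mv (w : W7) (y : Fin 7 → ℤ) : Fin 7 → ℤ := wm hpE7 w *ᵥ y

/-- the stabiliser -/
noncomputable abbrev Sb (y : Fin 7 → ℤ) : Subgroup W7 := KZ.Exc.St hpE7 y

/-- the simple reflections -/
abbrev sp (i : Fin 7) : W7 := sr' CoxeterMatrix.E₇ i

theorem mv_mul (v w : W7) (y : Fin 7 → ℤ) : mv (v * w) y = mv v (mv w y) := wm_mul_mulVec hpE7 v w y

theorem mv_one (y : Fin 7 → ℤ) : mv 1 y = y := wm_one_mulVec hpE7 y

theorem mv_inv (v : W7) (y : Fin 7 → ℤ) : mv v⁻¹ (mv v y) = y := by rw [← mv_mul, inv_mul_cancel, mv_one]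

theorem mv_inv' (v : W7) (y : Fin 7 → ℤ) : mv v (mv v⁻¹ y) = y := by rw [← mv_mul, mul_inv_cancel, mv_one]

/-- the word with the code `n` -/
noncomputable def eN (f : ℕ) : ℕ → W7 :=
  Nat.rec (fun _ => 1) (fun _ ih n => Bool.rec (ih (Nat.div n 8) * sp ⟨Nat.mod (Nat.mod n 8) 7, Nat.mod_lt _ (by decide)⟩) 1
    (Nat.beq n 0)) f

/-- the action of the word -/
noncomputable def aN (f : ℕ) : ℕ → List ℤ → List ℤ :=
  Nat.rec (fun _ y => y) (fun _ ih n y => Bool.rec (fl (refL rowsE7 (Nat.mod (Nat.mod n 8) 7) y) (ih (Nat.div n 8))) y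
    (Nat.beq n 0)) f

theorem aN_eq (f n : ℕ) (y : Fin 7 → ℤ) : aN f n (List.ofFn y) = List.ofFn (mv (eN f n) y) := by
  induction f generalizing n y with
  | zero => exact congrArg List.ofFn (mv_one y).symm
  | succ f ih =>
    show Bool.rec (fl _ (aN f _)) _ (Nat.beq n 0) = List.ofFn (mv (Bool.rec (eN f _ * _) 1 (Nat.beq n 0)) y)
    cases Nat.beq n 0
    · rw [fl_eq, mv_mul, ← ih, ← refL_eq hpE7 isRows_E7]
    · exact congrArg List.ofFn (mv_one y).symm

/-- the element with the code `n` -/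
noncomputable def el (n : ℕ) : W7 := eN 64 n

/-- the action of `el n` -/
noncomputable def ap (n : ℕ) : List ℤ → List ℤ := aN 64 n

theorem ap_eq (n : ℕ) (y : Fin 7 → ℤ) : ap n (List.ofFn y) = List.ofFn (mv (el n) y) := aN_eq 64 n y

theorem el_zero : el 0 = 1 := rfl

theorem mv_el {n : ℕ} {y z : Fin 7 → ℤ} (h : ap n (List.ofFn y) = List.ofFn z) : mv (el n) y = z :=
  List.ofFn_injective ((ap_eq n y).symm.trans h)

/-- a regular cocharacter -/
def ro : Fin 7 → ℤ := fun _ => 1

theorem eq_of_ro {v w : W7} (h : mv v ro = mv w ro) : v = w :=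
  (inv_mul_eq_one.1 (Subgroup.mem_bot.1 (dom_key hpE7 (y := ro) (fun _ => zero_le_one) (fun _ e => absurd e one_ne_zero)
    (w⁻¹ * v) (by
      show 0 ≤ mv _ ro
      rw [mv_mul, h, mv_inv]
      exact fun _ => zero_le_one)))).symm

/-- type `D₄ A₁` -/
def y0 : Fin 7 → ℤ := ![1, 0, 0, 0, 0, 1, 0]

/-- type `A₁³` -/
def yL : Fin 7 → ℤ := ![1, 0, 1, 1, 0, 1, 0]

/-- type `A₁` -/
def y2 : Fin 7 → ℤ := ![1, 1, 1, 1, 1, 1, 0]

/-- type `A₂ A₁` -/
def y3 : Fin 7 → ℤ := ![1, 1, 1, 0, 0, 1, 0]

/-- the second eigenvector -/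
def yE : Fin 7 → ℤ := ![0, 0, 1, 1, 0, 3, 0]

/-- the code of `w₀` -/
def n0 : ℕ := 1139764135387542811260851429

/-- an element of order `4` -/
noncomputable def w0 : W7 := el n0

/-- the representatives -/
def gk : List ℕ := [0, 1, 2, 3, 6, 10, 11, 12, 14, 22, 30, 83, 84, 86, 94, 102, 670, 678]

/-- `(h, v, k)` with `h w₀ = v g_k w₀ v⁻¹` -/
def tb : List (ℕ × ℕ × ℕ) := [
  (0, 0, 0), (1, 0, 1), (2, 0, 2), (3, 0, 3), (4, 9827, 1), (6, 0, 4), (10, 0, 5), (11, 0, 6), (12, 0, 7), (14, 0, 8),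
  (19, 666, 5), (20, 1635, 5), (22, 0, 9), (25, 1, 6), (26, 154, 0), (28, 668, 6), (30, 0, 10), (35, 5347, 6),
  (38, 9827, 8), (83, 0, 11), (84, 0, 12), (86, 0, 13), (89, 1, 3), (90, 5322, 3), (92, 156, 11), (94, 0, 14),
  (99, 716, 11), (102, 0, 15), (153, 1, 11), (154, 99, 3), (156, 5332, 11), (158, 666, 13), (163, 1635, 11),
  (166, 1635, 13), (202, 1226, 3), (204, 668, 11), (206, 1, 14), (212, 668, 3), (214, 154, 4), (227, 4, 3),
  (230, 668, 14), (281, 204, 11), (282, 5347, 3), (286, 5347, 14), (665, 154, 5), (666, 666, 6), (668, 11, 7),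
  (670, 0, 16), (675, 26, 7), (678, 0, 17), (714, 163, 0), (716, 156, 6), (718, 1, 10), (724, 99, 5), (726, 5322, 10),
  (739, 4, 6), (742, 156, 16), (793, 1251, 6), (794, 11, 5), (798, 716, 16), (1226, 154, 6), (1228, 3, 7),
  (1230, 1, 16), (1236, 42595, 6), (1238, 99, 10), (1251, 5402, 5), (1254, 5332, 16), (1305, 35, 7), (1306, 9811, 6),
  (1310, 1635, 16), (1619, 1226, 6), (1620, 35, 5), (1622, 1226, 10), (1635, 1699, 5), (1638, 668, 16), (1699, 99, 6),
  (1702, 668, 10), (1817, 12, 6), (1818, 83, 0), (1822, 4, 10), (2250, 3, 5), (2254, 204, 16), (2262, 5347, 10),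
  (5322, 35, 3), (5324, 1236, 11), (5326, 154, 13), (5332, 675, 11), (5334, 666, 14), (5347, 4, 11), (5350, 11, 15),
  (5401, 5731, 11), (5402, 83, 11), (5406, 26, 15), (5715, 666, 1), (5716, 156, 3), (5718, 163, 4), (5731, 5795, 1),
  (5734, 156, 14), (5795, 99, 1), (5798, 99, 13), (5913, 12, 3), (5914, 665, 3), (5918, 4, 14), (6346, 1251, 3),
  (6350, 1251, 14), (6358, 11, 13), (9811, 154, 1), (9812, 163, 11), (9814, 154, 14), (9827, 26, 12), (9830, 3, 15),
  (9891, 675, 1), (9894, 42595, 14), (10009, 12, 11), (10010, 11, 3), (10014, 5402, 13), (10442, 19, 11),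
  (10446, 35, 15), (10454, 9811, 14), (12956, 282, 1), (12958, 1226, 14), (12963, 227, 11), (12966, 35, 13),
  (13081, 1699, 1), (13082, 11, 2), (13086, 1699, 13), (13593, 35, 1), (13594, 83, 1), (13598, 99, 14),
  (14538, 153, 3), (14542, 12, 14), (14550, 83, 4), (18003, 26, 1), (18006, 3, 13), (42579, 5322, 6),
  (42580, 9827, 6), (42582, 35, 10), (42595, 1619, 7), (42598, 1236, 16), (42659, 675, 6), (42662, 675, 16),
  (42777, 1306, 5), (42778, 89, 6), (42782, 4, 16), (43210, 42579, 6), (43214, 5731, 16), (43222, 83, 16),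
  (45724, 5332, 6), (45726, 666, 8), (45731, 739, 6), (45734, 156, 10), (45849, 5795, 5), (45850, 1619, 0),
  (45854, 5795, 8), (46361, 35, 6), (46362, 83, 6), (46366, 99, 8), (47306, 19, 0), (47310, 12, 10), (47318, 665, 10),
  (50771, 714, 6), (50774, 1251, 10), (78492, 1236, 6), (78494, 154, 8), (78499, 154, 7), (78502, 163, 16),
  (78617, 1699, 7), (78618, 1619, 5), (78622, 26, 17), (79129, 163, 6), (79130, 11, 6), (79134, 675, 8),
  (80074, 25, 6), (80078, 12, 16), (80086, 11, 10), (83539, 202, 6), (83542, 19, 16), (103651, 20, 6),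
  (103654, 282, 8), (103705, 227, 6), (103706, 83, 5), (103710, 227, 16), (104650, 1699, 0), (104654, 1699, 8),
  (104662, 11, 9), (108746, 19, 6), (108750, 35, 8), (108758, 83, 8), (116307, 2, 6), (116310, 153, 10),
  (144028, 212, 6), (144030, 26, 8), (340636, 794, 1), (340638, 5322, 14), (340643, 5716, 11), (340646, 9827, 14),
  (340761, 90, 12), (340762, 1619, 1), (340766, 1619, 15), (341273, 163, 1), (341274, 11, 1), (341278, 675, 14),
  (342218, 3, 3), (342222, 1306, 13), (342230, 89, 14), (345683, 90, 1), (345686, 42579, 14), (365795, 20, 3),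
  (365798, 5332, 14), (365849, 739, 11), (365850, 739, 3), (365854, 739, 14), (366794, 3, 2), (366798, 5795, 13),
  (366806, 1619, 4), (370890, 19, 1), (370894, 35, 14), (370902, 83, 14), (378451, 2, 3), (378454, 19, 4),
  (406172, 5402, 1), (406174, 714, 14), (627939, 20, 11), (627942, 1236, 14), (627993, 1620, 11), (627994, 11, 11),
  (627998, 154, 15), (628938, 5715, 1), (628942, 1699, 15), (628950, 1619, 13), (633034, 3, 1), (633038, 163, 14),
  (633046, 11, 14), (640595, 2, 11), (640598, 25, 14), (668316, 1306, 1), (668318, 202, 14), (829209, 84, 3),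
  (829210, 89, 3), (829214, 20, 14), (829642, 227, 3), (829646, 227, 14), (829654, 83, 13), (837203, 714, 3),
  (837206, 1699, 4), (869971, 10, 3), (869974, 19, 14), (930460, 28, 11), (930462, 2, 14), (1152230, 212, 14),
  (2725091, 794, 5), (2725094, 794, 8), (2725145, 163, 7), (2725146, 1619, 6), (2725150, 5716, 16),
  (2726090, 5715, 5), (2726094, 90, 17), (2726102, 1619, 8), (2730186, 3, 6), (2730190, 163, 8), (2730198, 11, 8),
  (2737747, 90, 5), (2737750, 3, 10), (2765468, 724, 6), (2765470, 90, 8), (2926361, 84, 6), (2926362, 11, 0),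
  (2926366, 20, 10), (2926794, 19, 5), (2926798, 739, 16), (2926806, 739, 10), (2934355, 26, 0), (2934358, 3, 9),
  (2967123, 10, 6), (2967126, 19, 8), (3027612, 92, 6), (3027614, 2, 10), (3249382, 5402, 8), (5023513, 282, 5),
  (5023514, 665, 6), (5023518, 20, 16), (5023946, 5715, 6), (5023950, 1620, 16), (5023958, 11, 16), (5031507, 90, 6),
  (5031510, 5715, 8), (5064275, 26, 5), (5064278, 3, 8), (5124764, 83, 7), (5124766, 2, 16), (5346534, 1306, 8),
  (6633674, 3, 0), (6633678, 84, 10), (6633686, 89, 10), (6637139, 35, 0), (6637142, 227, 10), (6697628, 675, 5),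
  (6697630, 714, 10), (6959772, 28, 6), (6959774, 10, 10), (7443686, 28, 16), (21800729, 84, 11), (21800730, 83, 3),
  (21800734, 794, 13), (21801162, 3, 11), (21801166, 163, 15), (21801174, 1619, 14), (21808723, 26, 3),
  (21808726, 5715, 13), (21841491, 10, 11), (21841494, 3, 14), (21901980, 724, 11), (21901982, 90, 13),
  (22123750, 724, 14), (23410890, 25, 3), (23410894, 84, 14), (23410902, 11, 4), (23414355, 202, 3),
  (23414358, 19, 13), (23474844, 92, 3), (23474846, 26, 4), (23736988, 92, 11), (23736990, 10, 14),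
  (24220902, 92, 14), (40188106, 19, 3), (40188110, 282, 13), (40188118, 665, 14), (40191571, 90, 3),
  (40191574, 5715, 14), (40252060, 99, 11), (40252062, 90, 14), (40514204, 212, 11), (40514206, 26, 13),
  (40998118, 83, 15), (53069395, 2, 2), (53069398, 3, 4), (53097116, 28, 3), (53097118, 35, 4), (53581030, 675, 13),
  (55678182, 28, 14), (174405834, 153, 6), (174405838, 84, 16), (174405846, 83, 10), (174409299, 26, 6),
  (174409302, 3, 16), (174469788, 5731, 6), (174469790, 26, 10), (174731932, 19, 7), (174731934, 10, 16),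
  (175215846, 724, 16), (187287123, 2, 5), (187287126, 25, 10), (187314844, 163, 5), (187314846, 202, 10),
  (187798758, 92, 10), (189895910, 92, 16), (321504851, 2, 0), (321504854, 19, 10), (321532572, 1635, 6),
  (321532574, 90, 10), (322016486, 99, 16), (324113638, 212, 16), (424555164, 9827, 5), (424555166, 2, 9),
  (424776934, 28, 10), (1395246675, 2, 1), (1395246678, 153, 14), (1395274396, 35, 11), (1395274398, 26, 14),
  (1395758310, 5731, 14), (1397855462, 19, 15), (1498296988, 2, 12), (1498296990, 2, 13), (1498518758, 163, 13),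
  (2572038812, 1635, 1), (2572038814, 2, 4), (2572260582, 1635, 14), (3396441318, 9827, 13), (11161973404, 2, 7),
  (11161973406, 2, 8), (11162195174, 35, 16), (11986375910, 2, 17), (20576310502, 1635, 8), (89295787238, 2, 15)]

/-- the check of an entry -/
noncomputable def ck1 (t : ℕ × ℕ × ℕ) : Bool :=
  ap t.1 (List.ofFn y0) == List.ofFn y0 && ap t.2.1 (List.ofFn y0) == List.ofFn y0 && Nat.blt t.2.2 18 &&
    ap t.1 (ap n0 (ap t.2.1 (List.ofFn ro))) == ap t.2.1 (ap (gk.getD t.2.2 0) (ap n0 (List.ofFn ro)))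

/-- membership -/
noncomputable def memN (k : ℕ) (L : List ℕ) : Bool := List.rec false (fun a _ ih => Bool.rec ih true (Nat.beq a k)) L

theorem memN_iff {k : ℕ} {L : List ℕ} : memN k L = true ↔ k ∈ L := by
  induction L with
  | nil => simp [memN]
  | cons a L ih =>
    show Bool.rec (memN k L) true (Nat.beq a k) = true ↔ _
    cases h : Nat.beq a k
    · rw [List.mem_cons, or_iff_right fun e => Nat.ne_of_beq_eq_false h e.symm]
      exact ih
    · exact iff_of_true rfl (Nat.eq_of_beq_eq_true h ▸ List.mem_cons_self)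

/-- no duplicates -/
noncomputable def ndN (L : List ℕ) : Bool := List.rec true (fun a L ih => Bool.rec ih false (memN a L)) L

theorem ndN_nodup {L : List ℕ} (h : ndN L = true) : L.Nodup := by
  induction L with
  | nil => exact List.nodup_nil
  | cons a L ih =>
    have h1 : Bool.rec (ndN L) false (memN a L) = true := h
    cases e : memN a L
    · rw [e] at h1
      exact List.nodup_cons.2 ⟨fun h2 => by simp [memN_iff.2 h2] at e, ih h1⟩
    · rw [e] at h1
      exact absurd h1 (by simp)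

/-- forces a list -/
noncomputable def fN {α : Type} (L : List ℕ) : (List ℕ → α) → α :=
  List.rec (fun k => k []) (fun a _ ih k => fn a fun b => ih fun m => k (b :: m)) L

theorem fN_eq {α : Type} (L : List ℕ) (k : List ℕ → α) : fN L k = k L := by
  induction L generalizing k with
  | nil => rfl
  | cons a L ih => exact (fn_eq a fun b => fN L fun m => k (b :: m)).trans (ih _)

/-- the keys -/
noncomputable def ks : List ℕ := tb.map fun t => Encodable.encode (ap t.1 (List.ofFn ro))

/-- the table is closed under the generators -/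
noncomputable def ck2 : Bool := fN ks fun L => ndN L && tb.all fun t => fl (ap t.1 (List.ofFn ro)) fun y =>
  [1, 2, 3, 4, 6].all fun i => fn (Encodable.encode (refL rowsE7 i y)) fun k => memN k L

theorem chk1 : tb.all ck1 = true := by decide +kernel

theorem chk2 : ck2 = true := by decide +kernel

/-- the entries which map `μ` to `lam` -/
noncomputable def cl (μ lam : Fin 7 → ℤ) : List ℕ := (tb.filter fun t => ap t.1 (List.ofFn μ) == List.ofFn lam).map (·.2.2)

theorem chk3 : (List.range 18).map (cl y0 y0).count = [12, 24, 4, 32, 12, 24, 48, 12, 24, 4, 32, 32, 4, 24, 48, 12, 32, 4] ∧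
    cl yL yL = [0, 1, 1, 4, 7, 8, 8, 15] ∧ cl ![1, 1, 3, -2, 3, 1, 0] y2 = [6, 14] ∧
    cl ![2, -1, -1, 2, 0, 1, 0] y3 = [5, 12, 13, 3, 17, 5, 10, 5, 13, 3, 13, 10] := by decide +kernel

/-- the eigenspace modulo `5`, on lists -/
noncomputable def inE (y : List ℤ) : Bool := (List.zipWith (fun a b => (a - 2 * b) % 5) (ap n0 y) y).all (· == 0)

theorem chk4 : (tb.filter fun t => inE (ap t.1 (List.ofFn yE))).length = 32 := by decide +kernel

end Cfsg.Agent.LV.E7
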